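import Mathlib.RingTheory.Kaehler.Basic
import Mathlib.RingTheory.Derivation.Basic
import Mathlib.Algebra.Polynomial.Derivation
import Mathlib.Algebra.Polynomial.HasseDeriv
import Mathlib.FieldTheory.KummerPolynomial
import Mathlib.NumberTheory.Wilson
import Mathlib.Data.Nat.Prime.Factorial
import Mathlib.RingTheory.Adjoin.Basic
import Groth.Agent.EtCoh.K611.Gam

/-!
# The derivation of a purely inseparable extension of degree `p`

`K' = K(a)`, `a ^ p ∈ K`, `a ∉ K`: the `K`-derivation `D` with `D a = 1` has kernel `K`, `D ^ p = 0` and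
`D ^ (p - 1) (g ^ (p - 1) D g) = - (D g) ^ p`.  From it we get a `p⁻¹`-linear operator `ψ` of `K'` which fixes all
logarithmic derivatives `D g / g`.
-/

set_option autoImplicit false

universe u v

noncomputable section

namespace K44.Pins

open Polynomial

section Ring

variable {B : Type u} [CommRing B] (p : ℕ) [hp : Fact p.Prime] (D : Derivation ℤ B B)

theorem exists_phi (x y : B) : ∃ φ : B, (x + y) ^ (p - 1) * D (x + y) =
    x ^ (p - 1) * D x + y ^ (p - 1) * D y + D φ := by
  obtain ⟨φ, hφ⟩ := K611.Gam.exists_phi_ring p B x y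
  refine ⟨φ, ?_⟩
  have h := congrArg D.liftKaehlerDifferential hφ
  simp only [map_add, LinearMap.map_smul, Derivation.liftKaehlerDifferential_comp_D, smul_eq_mul] at h
  rw [map_add]
  exact h

omit hp in
theorem D_pow_p [CharP B p] (x : B) : D (x ^ p) = 0 := by
  rw [Derivation.leibniz_pow]
  simp

omit hp in
theorem D_pow_p_mul [CharP B p] (x y : B) : D (x ^ p * y) = x ^ p * D y := by
  rw [Derivation.leibniz, D_pow_p p D]
  simp

omit hp in
theorem iterate_pow_p_mul [CharP B p] (x y : B) (n : ℕ) : D^[n] (x ^ p * y) = x ^ p * D^[n] y := by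
  induction n generalizing y with
  | zero => rfl
  | succ n ih => rw [Function.iterate_succ_apply, Function.iterate_succ_apply, D_pow_p_mul p D, ih]

theorem iterate_add (x y : B) (n : ℕ) : D^[n] (x + y) = D^[n] x + D^[n] y := by
  induction n generalizing x y with
  | zero => rfl
  | succ n ih => simp only [Function.iterate_succ_apply, map_add, ih]

theorem iterate_zero' (n : ℕ) : D^[n] (0 : B) = 0 := by
  induction n with
  | zero => rfl
  | succ n ih => rw [Function.iterate_succ_apply, map_zero, ih]

end Ring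

variable {K : Type u} {K' : Type v} [Field K] [Field K'] [Algebra K K'] (p : ℕ) [hp : Fact p.Prime] [CharP K' p]
  (a : K') (b : K) (hb : algebraMap K K' b = a ^ p) (ha : a ∉ (algebraMap K K').range)
  (hgen : Algebra.adjoin K {a} = ⊤)

include hgen in
theorem aeval_surj : Function.Surjective (aeval a : K[X] →ₐ[K] K') := by
  rw [← AlgHom.range_eq_top, ← hgen, Algebra.adjoin_singleton_eq_range_aeval]

include hb ha in
theorem minpoly_dvd (P : K[X]) (hP : aeval a P = 0) : X ^ p - C b ∣ P := by
  have hpos := hp.out.pos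
  have : CharP K p := (RingHom.charP_iff (algebraMap K K') (algebraMap K K').injective p).2 inferInstance
  have hirr : Irreducible (X ^ p - C b) := by
    refine X_pow_sub_C_irreducible_of_prime hp.out fun c hc => ha ⟨c, ?_⟩
    have h : (algebraMap K K' c) ^ p = a ^ p := by rw [← map_pow, hc, hb]
    exact frobenius_inj K' p h
  have h1 : minpoly K a = X ^ p - C b := by
    refine (minpoly.eq_of_irreducible_of_monic hirr ?_ (monic_X_pow_sub_C b hpos.ne')).symm
    simp [hb]
  rw [← h1]
  exact minpoly.dvd K a hP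

include hb ha in
theorem lift_aux (P : K[X]) (hP : aeval a P = 0) : aeval a (derivative' P) = 0 := by
  have : CharP K p := (RingHom.charP_iff (algebraMap K K') (algebraMap K K').injective p).2 inferInstance
  obtain ⟨Q, rfl⟩ := minpoly_dvd p a b hb ha P hP
  have h0 : derivative (X ^ p - C b : K[X]) = 0 := by
    rw [derivative_sub, derivative_C, derivative_X_pow, sub_zero, CharP.cast_eq_zero, C_0, zero_mul]
  rw [derivative'_apply, derivative_mul, h0]
  simp [hb]

/-- The derivation `d/da`. -/
def DK : Derivation K K' K' :=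
  Derivation.liftOfSurjective (aeval_surj a hgen) (d := derivative') (lift_aux p a b hb ha)

theorem DK_aeval (P : K[X]) : DK p a b hb ha hgen (aeval a P) = aeval a (derivative P) :=
  Derivation.liftOfSurjective_apply (aeval_surj a hgen) (d := derivative') (lift_aux p a b hb ha) P

theorem DK_iterate (P : K[X]) (n : ℕ) : (DK p a b hb ha hgen)^[n] (aeval a P) = aeval a (derivative^[n] P) := by
  induction n generalizing P with
  | zero => rfl
  | succ n ih => rw [Function.iterate_succ_apply, Function.iterate_succ_apply, DK_aeval, ih]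

theorem DK_iterate_p (x : K') : (DK p a b hb ha hgen)^[p] x = 0 := by
  have : CharP K p := (RingHom.charP_iff (algebraMap K K') (algebraMap K K').injective p).2 inferInstance
  obtain ⟨P, rfl⟩ := aeval_surj a hgen x
  rw [DK_iterate, ← factorial_smul_hasseDeriv]
  have h : ((p.factorial : ℕ) : K[X]) = 0 := by
    rw [CharP.cast_eq_zero_iff K[X] p]
    exact (Nat.Prime.dvd_factorial hp.out).2 le_rfl
  rw [LinearMap.smul_apply, nsmul_eq_mul, h, zero_mul, map_zero]

theorem DK_eq_zero {x : K'} (h : DK p a b hb ha hgen x = 0) : x ∈ (algebraMap K K').range := by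
  have hpos := hp.out.pos
  have : CharP K p := (RingHom.charP_iff (algebraMap K K') (algebraMap K K').injective p).2 inferInstance
  obtain ⟨P, rfl⟩ := aeval_surj a hgen x
  have hm : (X ^ p - C b).Monic := monic_X_pow_sub_C b hpos.ne'
  have hdeg : (X ^ p - C b).natDegree = p := natDegree_X_pow_sub_C
  set R := P %ₘ (X ^ p - C b) with hR
  have hPR : aeval a P = aeval a R := by
    conv_lhs => rw [← modByMonic_add_div P (X ^ p - C b)]
    simp [hb, hR]
  rw [hPR] at h ⊢
  rw [DK_aeval] at h
  have hRdeg : R.natDegree < p := by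
    have := natDegree_modByMonic_lt P hm (by
      intro h1
      have := congrArg natDegree h1
      rw [hdeg, natDegree_one] at this
      omega)
    rwa [hdeg] at this
  have h0 : derivative R = 0 := by
    by_contra hne
    have h1 := natDegree_le_of_dvd (minpoly_dvd p a b hb ha _ h) hne
    rw [hdeg] at h1
    have h2 := natDegree_derivative_le R
    omega
  have h1 : R.natDegree = 0 := by
    have h2 : ∀ n, n < p → n ≠ 0 → R.coeff n = 0 := by
      intro n hn hn0
      have h3 := congrArg (fun Q => Q.coeff (n - 1)) h0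
      simp only [coeff_derivative, coeff_zero] at h3
      rw [Nat.sub_add_cancel (by omega)] at h3
      have h4 : ((n - 1 : ℕ) : K) + 1 = (n : K) := by
        have : ((n - 1 + 1 : ℕ) : K) = (n : K) := by rw [Nat.sub_add_cancel (by omega)]
        rw [← this]; push_cast; rfl
      rw [h4] at h3
      rcases mul_eq_zero.1 h3 with h5 | h5
      · exact h5
      · rw [CharP.cast_eq_zero_iff K p] at h5
        exact absurd (Nat.le_of_dvd (by omega) h5) (by omega)
    by_contra h5
    have h6 := h2 _ hRdeg h5
    rw [coeff_natDegree, leadingCoeff_eq_zero] at h6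
    rw [h6] at h5
    exact h5 natDegree_zero
  rw [eq_C_of_natDegree_eq_zero h1]
  exact ⟨R.coeff 0, by simp⟩

/-- The identity `D ^ (p - 1) (g ^ (p - 1) D g) = - (D g) ^ p`. -/
theorem DK_key (g : K') : (DK p a b hb ha hgen)^[p - 1] (g ^ (p - 1) * DK p a b hb ha hgen g) =
    - (DK p a b hb ha hgen g) ^ p := by
  have hpos := hp.out.pos
  have : CharP K p := (RingHom.charP_iff (algebraMap K K') (algebraMap K K').injective p).2 inferInstance
  let D := DK p a b hb ha hgen
  let D' : Derivation ℤ K' K' := D.restrictScalars ℤ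
  have hD' : ∀ x, D' x = D x := fun _ => rfl
  have hit : ∀ (n : ℕ) (x : K'), D'^[n] x = D^[n] x := fun _ _ => rfl
  have hadd : ∀ x y : K', D^[p - 1] (x ^ (p - 1) * D x) = - (D x) ^ p →
      D^[p - 1] (y ^ (p - 1) * D y) = - (D y) ^ p →
      D^[p - 1] ((x + y) ^ (p - 1) * D (x + y)) = - (D (x + y)) ^ p := by
    intro x y hx hy
    obtain ⟨φ, hφ⟩ := exists_phi p D' x y
    simp only [hD'] at hφ
    rw [hφ, ← hit, iterate_add, iterate_add, hit, hit, hit, hx, hy]
    have h1 : D^[p - 1] (D φ) = 0 := by
      rw [← Function.iterate_succ_apply, Nat.succ_eq_add_one, Nat.sub_add_cancel hpos]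
      exact DK_iterate_p p a b hb ha hgen φ
    rw [h1, map_add, add_pow_char]
    ring
  obtain ⟨P, rfl⟩ := aeval_surj a hgen g
  induction P using Polynomial.induction_on' with
  | add P Q hP hQ => rw [map_add]; exact hadd _ _ hP hQ
  | monomial n k =>
    rw [← C_mul_X_pow_eq_monomial]
    have h1 : D (aeval a (C k * X ^ n : K[X])) = algebraMap K K' k * ((n : K') * a ^ (n - 1)) := by
      rw [DK_aeval, derivative_C_mul_X_pow, map_mul, map_pow, aeval_X, aeval_C, map_mul, map_natCast]
      ring
    have h2 : aeval a (C k * X ^ n : K[X]) = algebraMap K K' k * a ^ n := by simp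
    change D^[p - 1] ((aeval a (C k * X ^ n : K[X])) ^ (p - 1) * D (aeval a (C k * X ^ n : K[X]))) =
      - (D (aeval a (C k * X ^ n : K[X]))) ^ p
    rw [h1, h2]
    rcases Nat.eq_zero_or_pos n with rfl | hn
    · simp only [Nat.cast_zero, zero_mul, mul_zero]
      rw [zero_pow hpos.ne', neg_zero, ← hit]
      exact iterate_zero' D' _
    have h3 : (algebraMap K K' k * a ^ n) ^ (p - 1) * (algebraMap K K' k * ((n : K') * a ^ (n - 1))) =
        (algebraMap K K' k * a ^ (n - 1)) ^ p * ((n : K') * a ^ (p - 1)) := by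
      obtain ⟨m, rfl⟩ : ∃ m, n = m + 1 := ⟨n - 1, by omega⟩
      obtain ⟨q, rfl⟩ : ∃ q, p = q + 1 := ⟨p - 1, by omega⟩
      simp only [Nat.add_sub_cancel]
      ring
    have h4 : D ((n : K')) = 0 := by
      have := D.map_algebraMap (n : K)
      rwa [map_natCast] at this
    have h5 : D^[p - 1] (a ^ (p - 1)) = -1 := by
      have h6 := DK_iterate p a b hb ha hgen (X ^ (p - 1)) (p - 1)
      rw [map_pow, aeval_X] at h6
      change D^[p - 1] (a ^ (p - 1)) = _ at h6
      rw [h6, iterate_derivative_X_pow_eq_natCast_mul, Nat.sub_self, pow_zero, mul_one, map_natCast,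
        Nat.descFactorial_self]
      have h7 := congrArg (ZMod.castHom (dvd_refl p) K') (ZMod.wilsons_lemma p)
      rw [map_natCast, map_neg, map_one] at h7
      exact h7
    have h8 : (n : K') ^ p = n := by
      have := map_natCast (frobenius K' p) n
      rwa [frobenius_def] at this
    have h9 : ∀ (m : ℕ) (x : K'), D^[m] ((n : K') * x) = (n : K') * D^[m] x := by
      intro m
      induction m with
      | zero => intro x; rfl
      | succ m ih =>
        intro x
        rw [Function.iterate_succ_apply, Function.iterate_succ_apply, ← ih, Derivation.leibniz, h4]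
        simp
    rw [h3, ← hit, iterate_pow_p_mul p D', hit, h9, h5, mul_pow, mul_pow, mul_pow, h8]
    ring

/-- A `p⁻¹`-linear retraction of the Frobenius. -/
theorem exists_retract (L : Type v) [Field L] [CharP L p] : ∃ c : L →+ L, (∀ x y, c (x ^ p * y) = x * c y) ∧
    ∀ x, c (x ^ p) = x := by
  let S : Subfield L := (frobenius L p).fieldRange
  obtain ⟨π, hπ⟩ := LinearMap.exists_leftInverse_of_injective (Algebra.linearMap S L)
    (LinearMap.ker_eq_bot.2 (algebraMap S L).injective)
  have hπ1 : ∀ s : S, π (s : L) = s := fun s => LinearMap.congr_fun hπ s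
  let e : L ≃+* S := RingEquiv.ofBijective (frobenius L p).rangeRestrictField
    ⟨(frobenius L p).rangeRestrictField.injective, fun y => by
      obtain ⟨x, hx⟩ := y.2
      exact ⟨x, Subtype.ext hx⟩⟩
  have he : ∀ x : L, ((e x : S) : L) = x ^ p := fun _ => rfl
  refine ⟨e.symm.toAddEquiv.toAddMonoidHom.comp π.toAddMonoidHom, fun x y => ?_, fun x => ?_⟩
  · have h1 : x ^ p * y = (e x) • y := by rw [Algebra.smul_def]; rfl
    change e.symm (π (x ^ p * y)) = x * e.symm (π y)
    rw [h1, map_smul, smul_eq_mul, map_mul, RingEquiv.symm_apply_apply]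
  · change e.symm (π (x ^ p)) = x
    rw [← he, hπ1, RingEquiv.symm_apply_apply]

include hb ha hgen in
/-- The derivation `D` with kernel `K` and a `p⁻¹`-linear operator which fixes the logarithmic derivatives. -/
theorem exists_psi : ∃ (D : Derivation ℤ K' K') (ψ : K' →+ K'),
    (∀ x, D x = 0 ↔ x ∈ (algebraMap K K').range) ∧ (∀ c x, ψ (c ^ p * x) = c * ψ x) ∧
      ∀ g, g ≠ 0 → ψ (D g / g) = D g / g := by
  have hpos := hp.out.pos
  let D := (DK p a b hb ha hgen).restrictScalars ℤ
  obtain ⟨c, hc1, hc2⟩ := exists_retract p K'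
  let It : K' →+ K' := AddMonoidHom.mk' (fun x => D^[p - 1] x) fun x y => iterate_add D x y _
  have hIt : ∀ x, It x = D^[p - 1] x := fun _ => rfl
  refine ⟨D, -(c.comp It), fun x => ⟨fun h => DK_eq_zero p a b hb ha hgen h, ?_⟩, fun x y => ?_, fun g hg => ?_⟩
  · rintro ⟨y, rfl⟩
    exact (DK p a b hb ha hgen).map_algebraMap y
  · rw [AddMonoidHom.neg_apply, AddMonoidHom.neg_apply, AddMonoidHom.comp_apply, AddMonoidHom.comp_apply, hIt,
      hIt, iterate_pow_p_mul p D, hc1]
    ring
  · have h1 : D g / g = (g⁻¹) ^ p * (g ^ (p - 1) * D g) := by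
      obtain ⟨q, rfl⟩ : ∃ q, p = q + 1 := ⟨p - 1, by omega⟩
      simp only [Nat.add_sub_cancel]
      rw [inv_pow, div_eq_mul_inv, pow_succ]
      field_simp
    have h2 : D^[p - 1] (g ^ (p - 1) * D g) = - (D g) ^ p := DK_key p a b hb ha hgen g
    rw [AddMonoidHom.neg_apply, AddMonoidHom.comp_apply, hIt, h1, iterate_pow_p_mul p D, h2, hc1, map_neg, hc2,
      ← h1]
    field_simp

end K44.Pins
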