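import Mathlib.Algebra.CharP.Algebra
import Mathlib.Algebra.Algebra.ZMod
import Mathlib.Algebra.Ring.Subring.Basic
import Mathlib.Algebra.Algebra.Operations
import Mathlib.Data.ZMod.Basic
import Mathlib.Data.Fintype.BigOperators
import Mathlib.RingTheory.Finiteness.Basic
import Mathlib.Algebra.Field.ZMod
import Mathlib.Algebra.Module.ZMod
import Mathlib.RingTheory.Finiteness.Cardinality

/-!
# `p⁻¹`-linear operators on finitely generated rings of characteristic `p` have finitely many fixed points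
-/

set_option autoImplicit false

universe u

noncomputable section

namespace K44.Pins

variable {L : Type u} [Field L] (p : ℕ) [hp : Fact p.Prime] [CharP L p] {N : ℕ} (y : Fin N → L)

/-- monomials -/
def mon (β : Fin N → ℕ) : L := ∏ i, y i ^ β i

omit hp [CharP L p] in
theorem mon_add (β γ : Fin N → ℕ) : mon y (β + γ) = mon y β * mon y γ := by
  simp only [mon, Pi.add_apply, pow_add, Finset.prod_mul_distrib]

omit hp [CharP L p] in
theorem mon_zero : mon y 0 = 1 := by simp [mon]

omit hp [CharP L p] in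
theorem mon_single (i : Fin N) : mon y (Pi.single i 1) = y i := by
  classical
  rw [mon, Finset.prod_eq_single i]
  · simp
  · intro j _ hj
    rw [Pi.single_eq_of_ne hj, pow_zero]
  · intro h
    exact absurd (Finset.mem_univ i) h

omit hp [CharP L p] in
theorem mon_divmod (β : Fin N → ℕ) : mon y β = mon y (fun i => β i / p) ^ p * mon y (fun i => β i % p) := by
  simp only [mon, ← Finset.prod_pow, ← Finset.prod_mul_distrib]
  refine Finset.prod_congr rfl fun i _ => ?_
  rw [← pow_mul, ← pow_add, Nat.div_add_mod']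

omit hp [CharP L p] in
theorem mon_mem {A : Subring L} (hA : ∀ i, y i ∈ A) (β : Fin N → ℕ) : mon y β ∈ A :=
  prod_mem fun i _ => pow_mem (hA i) _

/-- the exponents of degree at most `m` -/
def Ex (N m : ℕ) : Set (Fin N → ℕ) := {β | ∑ i, β i ≤ m}

theorem Ex_finite (N m : ℕ) : (Ex N m).Finite := by
  refine Set.Finite.subset (Set.Finite.pi' (fun _ : Fin N => Set.finite_Iic m)) fun β hβ i => ?_
  exact (Finset.single_le_sum (f := β) (fun j _ => Nat.zero_le (β j)) (Finset.mem_univ i)).trans hβ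

local instance : Algebra (ZMod p) L := ZMod.algebra L p

/-- polynomials of degree at most `m` in `y` -/
def F (m : ℕ) : Submodule (ZMod p) L := Submodule.span (ZMod p) (mon y '' Ex N m)

theorem F_finite (m : ℕ) : (F p y m : Set L).Finite := by
  have h1 : (mon y '' Ex N m).Finite := (Ex_finite N m).image _
  have h2 : Module.Finite (ZMod p) (F p y m) := Module.Finite.span_of_finite _ h1
  have h3 : Finite (F p y m) := Module.finite_of_finite (ZMod p)
  exact Set.toFinite _

theorem F_mono {m n : ℕ} (h : m ≤ n) : F p y m ≤ F p y n :=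
  Submodule.span_mono (Set.image_mono fun _ hβ => le_trans hβ h)

theorem mon_mem_F {β : Fin N → ℕ} {m : ℕ} (h : ∑ i, β i ≤ m) : mon y β ∈ F p y m :=
  Submodule.subset_span ⟨β, h, rfl⟩

theorem F_mul {m n : ℕ} {a b : L} (ha : a ∈ F p y m) (hb : b ∈ F p y n) : a * b ∈ F p y (m + n) := by
  have h : a * b ∈ F p y m * F p y n := Submodule.mul_mem_mul ha hb
  rw [F, F, Submodule.span_mul_span] at h
  refine Submodule.span_mono ?_ h
  rintro _ ⟨_, ⟨β, hβ, rfl⟩, _, ⟨γ, hγ, rfl⟩, rfl⟩
  refine ⟨β + γ, ?_, mon_add y β γ⟩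
  change ∑ i, (β i + γ i) ≤ m + n
  rw [Finset.sum_add_distrib]
  exact add_le_add hβ hγ

theorem exists_mem_F {x : L} (hx : x ∈ Subring.closure (Set.range y)) : ∃ m, x ∈ F p y m := by
  induction hx using Subring.closure_induction with
  | mem x hx =>
    obtain ⟨i, rfl⟩ := hx
    refine ⟨1, ?_⟩
    rw [← mon_single y i]
    exact mon_mem_F p y (by classical simp)
  | zero => exact ⟨0, zero_mem _⟩
  | one =>
    refine ⟨0, ?_⟩
    rw [← mon_zero y]
    exact mon_mem_F p y (by simp)
  | add a b _ _ ha hb =>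
    obtain ⟨m, hm⟩ := ha
    obtain ⟨n, hn⟩ := hb
    exact ⟨max m n, add_mem (F_mono p y (le_max_left _ _) hm) (F_mono p y (le_max_right _ _) hn)⟩
  | neg a _ ha =>
    obtain ⟨m, hm⟩ := ha
    exact ⟨m, neg_mem hm⟩
  | mul a b _ _ ha hb =>
    obtain ⟨m, hm⟩ := ha
    obtain ⟨n, hn⟩ := hb
    exact ⟨m + n, F_mul p y hm hn⟩

variable (ψ : L →+ L) (hψ : ∀ c x, ψ (c ^ p * x) = c * ψ x)

omit hp [CharP L p] in
include hψ in
theorem psi_mon (β : Fin N → ℕ) : ψ (mon y β) = mon y (fun i => β i / p) * ψ (mon y (fun i => β i % p)) := by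
  conv_lhs => rw [mon_divmod p y β]
  exact hψ _ _

omit [CharP L p] in
/-- An additive map sends a span over `ZMod p` to a submodule as soon as the generators go there. -/
theorem map_span [CharP L p] {S : Set L} {T : Submodule (ZMod p) L} (h : ∀ s ∈ S, ψ s ∈ T) {x : L}
    (hx : x ∈ Submodule.span (ZMod p) S) : ψ x ∈ T := by
  have h1 : Submodule.span (ZMod p) S ≤ T.comap (ψ.toZModLinearMap p) := Submodule.span_le.2 h
  exact h1 hx

include hψ in
theorem psi_mem (A : Subring L) (hA : ∀ i, y i ∈ A) {d : L} (hd : ∀ δ : Fin N → ℕ, (∀ i, δ i < p) →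
    d * ψ (mon y δ) ∈ A) {x : L} (hx : x ∈ Subring.closure (Set.range y)) : d * ψ x ∈ A := by
  obtain ⟨m, hm⟩ := exists_mem_F p y hx
  have hpos := hp.out.pos
  let T : AddSubgroup L := A.toAddSubgroup.comap (AddMonoidHom.mulLeft d)
  have hT : ∀ c : ZMod p, ∀ x ∈ T, c • x ∈ T := fun c x hx => by
    obtain ⟨n, rfl⟩ := ZMod.natCast_zmod_surjective c
    rw [Nat.cast_smul_eq_nsmul]
    exact nsmul_mem hx n
  let T' : Submodule (ZMod p) L := { T with smul_mem' := hT }
  refine map_span p ψ (T := T') (fun s hs => ?_) hm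
  obtain ⟨β, _, rfl⟩ := hs
  change d * ψ (mon y β) ∈ A
  rw [psi_mon p y ψ hψ, mul_left_comm]
  exact mul_mem (mon_mem y hA _) (hd _ fun i => Nat.mod_lt _ hpos)

include hψ in
theorem exists_bound (hst : ∀ δ : Fin N → ℕ, (∀ i, δ i < p) → ψ (mon y δ) ∈ Subring.closure (Set.range y)) :
    ∃ M : ℕ, ∀ m, ∀ x ∈ F p y m, ψ x ∈ F p y (m / p + M) := by
  classical
  have hpos := hp.out.pos
  have h0 : ∀ δ : Fin N → Fin p, ∃ m, ψ (mon y (fun i => (δ i : ℕ))) ∈ F p y m := fun δ =>
    exists_mem_F p y (hst _ fun i => (δ i).2)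
  choose M hM using h0
  refine ⟨∑ δ, M δ, fun m x hx => map_span p ψ (fun s hs => ?_) hx⟩
  obtain ⟨β, hβ, rfl⟩ := hs
  rw [psi_mon p y ψ hψ]
  refine F_mul p y (mon_mem_F p y ?_) ?_
  · rw [Nat.le_div_iff_mul_le hpos, Finset.sum_mul]
    exact (Finset.sum_le_sum fun i _ => Nat.div_mul_le_self _ _).trans hβ
  · let δ : Fin N → Fin p := fun i => ⟨β i % p, Nat.mod_lt _ hpos⟩
    exact F_mono p y (Finset.single_le_sum (f := M) (fun _ _ => Nat.zero_le _) (Finset.mem_univ δ)) (hM δ)

include hψ in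
/-- **Finiteness**: a `p⁻¹`-linear operator on a finitely generated ring has finitely many fixed points. -/
theorem finite_fix (hst : ∀ δ : Fin N → ℕ, (∀ i, δ i < p) → ψ (mon y δ) ∈ Subring.closure (Set.range y)) :
    {x | x ∈ Subring.closure (Set.range y) ∧ ψ x = x}.Finite := by
  obtain ⟨M, hM⟩ := exists_bound p y ψ hψ hst
  refine (F_finite p y (2 * M)).subset ?_
  rintro x ⟨hx, hfix⟩
  obtain ⟨m, hm⟩ := exists_mem_F p y hx
  induction m using Nat.strong_induction_on with
  | _ m ih =>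
    by_cases h : m ≤ 2 * M
    · exact F_mono p y h hm
    · have h1 := hM m x hm
      rw [hfix] at h1
      refine ih _ ?_ h1
      have h2 : m / p ≤ m / 2 := Nat.div_le_div_left hp.out.two_le (by norm_num)
      omega

end K44.Pins
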