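import Mathlib.RingTheory.UniqueFactorizationDomain.Basic
import Mathlib.RingTheory.UniqueFactorizationDomain.Kaplansky
import Mathlib.GroupTheory.MonoidLocalization.UniqueFactorization
import Mathlib.GroupTheory.Finiteness
import Mathlib.RingTheory.Noetherian.Basic
import Mathlib.RingTheory.Finiteness.Basic
import Mathlib.RingTheory.Localization.Defs
import Mathlib.RingTheory.PrincipalIdealDomain
import Mathlib.Algebra.EuclideanDomain.Int
import Mathlib.LinearAlgebra.FreeModule.PID
import Mathlib.Tactic.FieldSimp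
import Mathlib.Tactic.LinearCombination

/-!
# Localizations of unique factorization subrings of a field, with finitely generated units
-/

set_option autoImplicit false

universe u v w

noncomputable section

namespace K44.Pins

/-- A subgroup of a finitely generated commutative group is finitely generated. -/
theorem fg_of_injective {G : Type u} {G' : Type v} [CommGroup G] [CommGroup G'] [Group.FG G'] (f : G →* G')
    (hf : Function.Injective f) : Group.FG G := by
  have h2 : Module.Finite ℤ (Additive G') := Module.Finite.iff_addGroup_fg.mpr inferInstance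
  have h4 : Module.Finite ℤ (Additive G) :=
    Module.Finite.of_injective (MonoidHom.toAdditive f).toIntLinearMap hf
  exact GroupFG.iff_add_fg.2 (Module.Finite.iff_addGroup_fg.1 h4)

variable {L : Type u} [Field L]

/-- `A[1/d]` in the field `L`. -/
def loc (A : Subring L) (d : L) : Subring L := Subring.closure (A ∪ {d⁻¹})

theorem le_loc (A : Subring L) (d : L) : A ≤ loc A d := fun _ hx =>
  Subring.subset_closure (Or.inl hx)

theorem inv_mem_loc (A : Subring L) (d : L) : d⁻¹ ∈ loc A d :=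
  Subring.subset_closure (Or.inr rfl)

theorem mem_loc {A : Subring L} {d : L} (hd : d ∈ A) (hd0 : d ≠ 0) {x : L} :
    x ∈ loc A d ↔ ∃ n : ℕ, x * d ^ n ∈ A := by
  constructor
  · intro hx
    induction hx using Subring.closure_induction with
    | mem x hx =>
      rcases hx with hx | hx
      · exact ⟨0, by simpa using hx⟩
      · refine ⟨1, ?_⟩
        rw [Set.mem_singleton_iff.1 hx, pow_one, inv_mul_cancel₀ hd0]
        exact one_mem A
    | zero => exact ⟨0, by simp⟩
    | one => exact ⟨0, by simp⟩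
    | add a b _ _ ha hb =>
      obtain ⟨m, hm⟩ := ha
      obtain ⟨n, hn⟩ := hb
      refine ⟨m + n, ?_⟩
      have h : (a + b) * d ^ (m + n) = (a * d ^ m) * d ^ n + (b * d ^ n) * d ^ m := by ring
      rw [h]
      exact add_mem (mul_mem hm (pow_mem hd _)) (mul_mem hn (pow_mem hd _))
    | neg a _ ha =>
      obtain ⟨m, hm⟩ := ha
      exact ⟨m, by rw [neg_mul]; exact neg_mem hm⟩
    | mul a b _ _ ha hb =>
      obtain ⟨m, hm⟩ := ha
      obtain ⟨n, hn⟩ := hb
      refine ⟨m + n, ?_⟩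
      have h : (a * b) * d ^ (m + n) = (a * d ^ m) * (b * d ^ n) := by ring
      rw [h]
      exact mul_mem hm hn
  · rintro ⟨n, hn⟩
    have h : x = x * d ^ n * (d⁻¹) ^ n := by
      rw [inv_pow, mul_assoc, mul_inv_cancel₀ (pow_ne_zero n hd0), mul_one]
    rw [h]
    exact mul_mem (le_loc A d hn) (pow_mem (inv_mem_loc A d) n)

/-- `q` is a prime element of the subring `A`. -/
def Pr (A : Subring L) (q : L) : Prop :=
  q ∈ A ∧ q ≠ 0 ∧ q⁻¹ ∉ A ∧ ∀ x ∈ A, ∀ y ∈ A, x * y / q ∈ A → x / q ∈ A ∨ y / q ∈ A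

theorem dvd_iff (A : Subring L) (a b : A) (ha : (a : L) ≠ 0) : a ∣ b ↔ (b : L) / a ∈ A := by
  constructor
  · rintro ⟨c, rfl⟩
    rw [Subring.coe_mul, mul_div_cancel_left₀ _ ha]
    exact c.2
  · intro h
    refine ⟨⟨(b : L) / a, h⟩, Subtype.ext ?_⟩
    rw [Subring.coe_mul, mul_div_cancel₀ _ ha]

theorem isUnit_iff (A : Subring L) (a : A) (ha : (a : L) ≠ 0) : IsUnit a ↔ (a : L)⁻¹ ∈ A := by
  rw [isUnit_iff_dvd_one, dvd_iff A a 1 ha, Subring.coe_one, one_div]

theorem prime_iff (A : Subring L) (q : A) : Prime q ↔ Pr A q := by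
  constructor
  · rintro ⟨h1, h2, h3⟩
    have h0 : (q : L) ≠ 0 := fun h => h1 (Subtype.ext h)
    refine ⟨q.2, h0, fun h => h2 ((isUnit_iff A q h0).2 h), fun x hx y hy hxy => ?_⟩
    have := h3 ⟨x, hx⟩ ⟨y, hy⟩ ((dvd_iff A q _ h0).2 hxy)
    rwa [dvd_iff A q _ h0, dvd_iff A q _ h0] at this
  · rintro ⟨_, h0, h2, h3⟩
    refine ⟨fun h => h0 (by rw [h]; rfl), fun h => h2 ((isUnit_iff A q h0).1 h), fun x y hxy => ?_⟩
    rw [dvd_iff A q _ h0, dvd_iff A q _ h0]
    exact h3 x x.2 y y.2 ((dvd_iff A q _ h0).1 hxy)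

theorem Pr.loc {A : Subring L} {d : L} (hd : d ∈ A) (hd0 : d ≠ 0) {q : L} (hq : Pr A q) (hn : q⁻¹ ∉ loc A d) :
    Pr (loc A d) q := by
  obtain ⟨h1, h2, h3, h4⟩ := hq
  refine ⟨le_loc A d h1, h2, hn, fun x hx y hy hxy => ?_⟩
  rw [mem_loc hd hd0] at hx hy hxy
  obtain ⟨a, ha⟩ := hx
  obtain ⟨b, hb⟩ := hy
  obtain ⟨n, hn'⟩ := hxy
  rcases h4 (x * d ^ a * (y * d ^ b)) (mul_mem ha hb) (d ^ n) (pow_mem hd n) (by
      have h : x * d ^ a * (y * d ^ b) * d ^ n / q = x * y / q * d ^ n * (d ^ a * d ^ b) := by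
        field_simp
      rw [h]
      exact mul_mem hn' (mul_mem (pow_mem hd _) (pow_mem hd _))) with h | h
  · rcases h4 _ ha _ hb h with h | h
    · left
      rw [mem_loc hd hd0]
      exact ⟨a, by rwa [div_mul_eq_mul_div]⟩
    · right
      rw [mem_loc hd hd0]
      exact ⟨b, by rwa [div_mul_eq_mul_div]⟩
  · exfalso
    apply hn
    rw [mem_loc hd hd0]
    exact ⟨n, by rwa [inv_mul_eq_div]⟩

/-- A finitely generated subring with fraction field `L`, unique factorization and finitely generated units. -/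
structure GoodS (A : Subring L) : Prop where
  fg : ∃ (N : ℕ) (y : Fin N → L), Subring.closure (Set.range y) = A
  frac : ∀ x : L, ∃ d ∈ A, d ≠ 0 ∧ d * x ∈ A
  ufd : UniqueFactorizationMonoid A
  units : Group.FG Aˣ

theorem isLocalization_loc (A : Subring L) {d : L} (hd : d ∈ A) (hd0 : d ≠ 0) :
    @IsLocalization A _ (Submonoid.powers (⟨d, hd⟩ : A)) (loc A d) _
      (Subring.inclusion (le_loc A d)).toAlgebra := by
  let := (Subring.inclusion (le_loc A d)).toAlgebra
  have hal : ∀ a : A, ((algebraMap A (loc A d) a : loc A d) : L) = a := fun _ => rfl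
  rw [isLocalization_iff]
  refine ⟨fun y => ?_, fun z => ?_, fun {x y} h => ⟨1, ?_⟩⟩
  · obtain ⟨_, n, rfl⟩ := y
    rw [isUnit_iff (loc A d) _ (by rw [hal]; simpa using pow_ne_zero n hd0), hal]
    change ((d : L) ^ n)⁻¹ ∈ loc A d
    rw [← inv_pow]
    exact pow_mem (inv_mem_loc A d) n
  · obtain ⟨n, hn⟩ := (mem_loc hd hd0).1 z.2
    exact ⟨(⟨_, hn⟩, ⟨(⟨d, hd⟩ : A) ^ n, n, rfl⟩), Subtype.ext rfl⟩
  · have h' : ((algebraMap A (loc A d) x : loc A d) : L) = (algebraMap A (loc A d) y : loc A d) :=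
      congrArg Subtype.val h
    rw [hal, hal] at h'
    rw [Subtype.ext h']

theorem GoodS.ufd_loc {A : Subring L} (h : GoodS A) {d : L} (hd : d ∈ A) (hd0 : d ≠ 0) :
    UniqueFactorizationMonoid (loc A d) := by
  let := (Subring.inclusion (le_loc A d)).toAlgebra
  have := isLocalization_loc A hd hd0
  have := h.ufd
  exact UniqueFactorizationMonoid.of_isLocalization (Submonoid.powers (⟨d, hd⟩ : A)) (loc A d)

theorem GoodS.units_loc {A : Subring L} (h : GoodS A) {d : L} (hd : d ∈ A) (hd0 : d ≠ 0) :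
    Group.FG (loc A d)ˣ := by
  classical
  have := h.ufd
  have := h.units
  let ιA : Aˣ →* Lˣ := Units.map A.subtype.toMonoidHom
  let ι : (loc A d)ˣ →* Lˣ := Units.map (loc A d).subtype.toMonoidHom
  have hι : Function.Injective ι := Units.map_injective (loc A d).subtype_injective
  let dA : A := ⟨d, hd⟩
  have hdA : dA ≠ 0 := fun h => hd0 (congrArg Subtype.val h)
  let S : Set Lˣ := {x | ∃ q ∈ UniqueFactorizationMonoid.factors dA, ((x : L) = (q : A))}
  have hS : S.Finite := by
    have h1 : ((UniqueFactorizationMonoid.factors dA).toFinset.image (fun q : A => (q : L)) : Set L).Finite :=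
      Finset.finite_toSet _
    refine Set.Finite.of_finite_image (f := (Units.val : Lˣ → L)) (h1.subset ?_) Units.val_injective.injOn
    rintro _ ⟨x, ⟨q, hq, hx⟩, rfl⟩
    simp only [Finset.coe_image, Set.mem_image, Finset.mem_coe, Multiset.mem_toFinset]
    exact ⟨q, hq, hx.symm⟩
  let H : Subgroup Lˣ := ιA.range ⊔ Subgroup.closure S
  have hH : H.FG := by
    refine Subgroup.FG.sup ?_ ?_
    · rw [← Group.fg_iff_subgroup_fg]
      infer_instance
    · rw [Subgroup.fg_iff]
      exact ⟨S, rfl, hS⟩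
  have hH' : Group.FG H := (Group.fg_iff_subgroup_fg H).2 hH
  -- elements of `A` dividing a power of `d`
  have key : ∀ x : A, ∀ k : ℕ, x ∣ dA ^ k → ∀ y : Lˣ, (y : L) = x → y ∈ H := by
    intro x
    induction x using UniqueFactorizationMonoid.induction_on_prime with
    | h₁ => 
      intro k hk y hy
      exact absurd hy y.ne_zero
    | h₂ x hx =>
      intro k hk y hy
      obtain ⟨u, rfl⟩ := hx
      refine (le_sup_left : ιA.range ≤ H) ⟨u, Units.ext hy.symm⟩
    | h₃ a q ha hq ih =>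
      intro k hk y hy
      have hq0 : (q : L) ≠ 0 := ((prime_iff A q).1 hq).2.1
      have ha0 : (a : L) ≠ 0 := fun h => ha (Subtype.ext h)
      have h1 : q ∣ dA := hq.dvd_of_dvd_pow ((Dvd.intro _ rfl).trans hk)
      obtain ⟨q', hq', hqq⟩ := UniqueFactorizationMonoid.exists_mem_factors_of_dvd hdA hq.irreducible h1
      obtain ⟨u, hu⟩ := hqq
      have h2 : y = ((Units.mk0 (q : L) hq0) * ιA u) * (ιA u)⁻¹ * Units.mk0 (a : L) ha0 := by
        ext
        rw [hy]
        simp
      rw [h2]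
      refine mul_mem (mul_mem ?_ ?_) ?_
      · refine (le_sup_right : Subgroup.closure S ≤ H) (Subgroup.subset_closure ⟨q', hq', ?_⟩)
        rw [← hu]
        rfl
      · exact (le_sup_left : ιA.range ≤ H) (inv_mem ⟨u, rfl⟩)
      · exact ih k ((Dvd.intro_left _ rfl).trans hk) _ rfl
  have hmem : ∀ u : (loc A d)ˣ, ι u ∈ H := by
    intro u
    have hu0 : ((u : loc A d) : L) ≠ 0 := (ι u).ne_zero
    obtain ⟨n, hn⟩ := (mem_loc hd hd0).1 (u : loc A d).2
    obtain ⟨m, hm⟩ := (mem_loc hd hd0).1 (↑u⁻¹ : loc A d).2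
    have huv : ((u : loc A d) : L) * ((↑u⁻¹ : loc A d) : L) = 1 := by
      rw [← Subring.coe_mul, Units.mul_inv, Subring.coe_one]
    have h1 : (⟨_, hn⟩ : A) ∣ dA ^ (n + m) := by
      refine ⟨⟨_, hm⟩, Subtype.ext ?_⟩
      change d ^ (n + m) = ((u : loc A d) : L) * d ^ n * (((↑u⁻¹ : loc A d) : L) * d ^ m)
      rw [pow_add]
      linear_combination (-(d ^ n * d ^ m)) * huv
    have h2 : ∀ k : ℕ, (Units.mk0 (d ^ k) (pow_ne_zero k hd0)) ∈ H := fun k => key (dA ^ k) k dvd_rfl _ rfl
    have h3 : ι u = Units.mk0 (((u : loc A d) : L) * d ^ n) (mul_ne_zero hu0 (pow_ne_zero n hd0)) *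
        (Units.mk0 (d ^ n) (pow_ne_zero n hd0))⁻¹ := by
      ext
      change ((u : loc A d) : L) = _
      simp
    rw [h3]
    exact mul_mem (key ⟨_, hn⟩ _ h1 _ rfl) (inv_mem (h2 n))
  exact fg_of_injective (ι.codRestrict H hmem) fun x y h => hι (congrArg Subtype.val h)

theorem GoodS.loc {A : Subring L} (h : GoodS A) {d : L} (hd : d ∈ A) (hd0 : d ≠ 0) : GoodS (loc A d) := by
  refine ⟨?_, fun x => ?_, h.ufd_loc hd hd0, h.units_loc hd hd0⟩
  · obtain ⟨N, y, hy⟩ := h.fg
    refine ⟨N + 1, Fin.cons d⁻¹ y, ?_⟩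
    rw [Fin.range_cons]
    apply le_antisymm
    · rw [Subring.closure_le]
      rintro x (rfl | hx)
      · exact inv_mem_loc A d
      · exact le_loc A d (hy ▸ Subring.subset_closure hx)
    · rw [K44.Pins.loc, Subring.closure_le]
      rintro x (hx | hx)
      · have h1 : Subring.closure (Set.range y) ≤ Subring.closure (insert d⁻¹ (Set.range y)) :=
          Subring.closure_mono (Set.subset_insert _ _)
        rw [hy] at h1
        exact h1 hx
      · rw [Set.mem_singleton_iff.1 hx]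
        exact Subring.subset_closure (Set.mem_insert _ _)
  · obtain ⟨e, he, he0, hx⟩ := h.frac x
    exact ⟨e, le_loc A d he, he0, le_loc A d hx⟩

/-- common denominators -/
theorem GoodS.exists_denom {A : Subring L} (h : GoodS A) {S : Set L} (hS : S.Finite) :
    ∃ d ∈ A, d ≠ 0 ∧ ∀ s ∈ S, d * s ∈ A := by
  induction S, hS using Set.Finite.induction_on with
  | empty => exact ⟨1, one_mem A, one_ne_zero, fun s hs => hs.elim⟩
  | @insert a S _ _ ih =>
    obtain ⟨d, hd, hd0, hdS⟩ := ih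
    obtain ⟨e, he, he0, hea⟩ := h.frac a
    refine ⟨d * e, mul_mem hd he, mul_ne_zero hd0 he0, ?_⟩
    rintro s (rfl | hs)
    · rw [mul_assoc]
      exact mul_mem hd hea
    · rw [mul_right_comm]
      exact mul_mem (hdS s hs) he

end K44.Pins
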