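import Groth.Agent.MultTori.K44.PinsDer
import Groth.Agent.MultTori.K44.PinsFin
import Groth.Agent.MultTori.K44.PinsLoc
import Groth.Agent.MultTori.K441.Defs
import Mathlib.RingTheory.Adjoin.Tower
import Mathlib.RingTheory.FiniteType
import Mathlib.RingTheory.IntegralClosure.Algebra.Basic
import Mathlib.FieldTheory.PurelyInseparable.Basic

/-!
# Descent of `Good` along finite purely inseparable extensions
-/

set_option autoImplicit false

universe u v

noncomputable section

namespace K44.Pins

section Ufd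

variable {K : Type u} {L : Type v} [Field K] [Field L] [Algebra K L] (p : ℕ) [hp : Fact p.Prime] [CharP L p]
  (D : Derivation ℤ L L) (hD : ∀ x, D x = 0 ↔ x ∈ (algebraMap K L).range)

/-- `A ∩ K` -/
abbrev cut (K : Type u) {L : Type v} [Field K] [Field L] [Algebra K L] (A : Subring L) : Subring K :=
  A.comap (algebraMap K L)

omit hp in
include hD in
theorem exists_pow (x : L) : ∃ k : K, algebraMap K L k = x ^ p := (hD _).1 (D_pow_p p D x)

omit hp [CharP L p] in
theorem prime_case_one {A : Subring L} {q : L} (hq : Pr A q) (hqK : q ∈ (algebraMap K L).range) :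
    ∃ g : cut K A, Prime g ∧ algebraMap K L g = q := by
  obtain ⟨k, rfl⟩ := hqK
  refine ⟨⟨k, hq.1⟩, (prime_iff _ _).2 ⟨hq.1, fun h => hq.2.1 (by
      have h' : k = 0 := h
      rw [h', map_zero]), fun h => ?_, ?_⟩, rfl⟩
  · have h' : algebraMap K L k⁻¹ ∈ A := h
    rw [map_inv₀] at h'
    exact hq.2.2.1 h'
  · intro x hx y hy hxy
    have hxy' : algebraMap K L (x * y / k) ∈ A := hxy
    rw [map_div₀, map_mul] at hxy'
    rcases hq.2.2.2 _ hx _ hy hxy' with h | h
    · left
      change algebraMap K L (x / k) ∈ A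
      rwa [map_div₀]
    · right
      change algebraMap K L (y / k) ∈ A
      rwa [map_div₀]

include hD in
theorem prime_case_two {A : Subring L} [IsNoetherianRing A] (hst : ∀ x ∈ A, D x ∈ A) {q : L} (hq : Pr A q)
    (hDq : D q / q ∉ A) : ∃ g : cut K A, Prime g ∧ algebraMap K L g = q ^ p := by
  have hpos := hp.out.pos
  obtain ⟨k, hk⟩ := exists_pow p D hD q
  have hq0 := hq.2.1
  have hk0 : k ≠ 0 := by
    rintro rfl
    rw [map_zero] at hk
    exact pow_ne_zero p hq0 hk.symm
  have hkA : algebraMap K L k ∈ A := by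
    rw [hk]
    exact pow_mem hq.1 p
  -- `q ∣ x`, `x ∈ K` implies `q ^ p ∣ x`
  have key : ∀ x : K, algebraMap K L x ∈ A → algebraMap K L x / q ∈ A → algebraMap K L (x / k) ∈ A := by
    intro x hx hxq
    by_cases hx0 : x = 0
    · rw [hx0, zero_div, map_zero]
      exact zero_mem A
    have hx0' : algebraMap K L x ≠ 0 := by simpa using hx0
    have hqp : Prime (⟨q, hq.1⟩ : A) := (prime_iff A _).2 hq
    obtain ⟨m, w, hw, hxw⟩ := WfDvdMonoid.max_power_factor (a₀ := (⟨_, hx⟩ : A))
      (fun h => hx0' (congrArg Subtype.val h)) hqp.irreducible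
    have hxw' : algebraMap K L x = q ^ m * (w : L) := congrArg Subtype.val hxw
    have hw' : (w : L) / q ∉ A := fun h => hw ((dvd_iff A ⟨q, hq.1⟩ w hq0).2 h)
    have hpm : p ∣ m := by
      by_contra hpm
      have hDx : D (algebraMap K L x) = 0 := (hD _).2 ⟨x, rfl⟩
      have hm0 : (m : L) ≠ 0 := fun h => hpm ((CharP.cast_eq_zero_iff L p m).1 h)
      obtain ⟨n, rfl⟩ : ∃ n, m = n + 1 := ⟨m - 1, by
        have : m ≠ 0 := fun h => hpm (h ▸ dvd_zero p)
        omega⟩
      rw [hxw', Derivation.leibniz, Derivation.leibniz_pow, smul_eq_mul, smul_eq_mul, smul_eq_mul,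
        nsmul_eq_mul, Nat.add_sub_cancel] at hDx
      have h1 : (((n + 1 : ℕ) : L)) * ((w : L) * D q) = - (q * D w) := by
        have h2 : q ^ n * ((((n + 1 : ℕ) : L)) * ((w : L) * D q) + q * D w) = 0 := by
          rw [← hDx]; ring
        rcases mul_eq_zero.1 h2 with h3 | h3
        · exact absurd h3 (pow_ne_zero n hq0)
        · linear_combination h3
      -- the inverse of `n + 1` is a natural number
      obtain ⟨r, hr⟩ : ∃ r : ℕ, ((r : L)) * ((n + 1 : ℕ) : L) = 1 := by
        have hco : (n + 1).Coprime p := by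
          rw [Nat.coprime_comm]
          exact (Nat.Prime.coprime_iff_not_dvd hp.out).2 hpm
        let r := (((n + 1 : ℕ) : ZMod p)⁻¹).val
        refine ⟨r, ?_⟩
        have h2 : ((r : ℕ) : ZMod p) * ((n + 1 : ℕ) : ZMod p) = 1 := by
          rw [ZMod.natCast_zmod_val]
          rw [mul_comm]
          exact ZMod.coe_mul_inv_eq_one _ hco
        have h3 := congrArg (ZMod.castHom (dvd_refl p) L) h2
        rwa [map_mul, map_natCast, map_natCast, map_one] at h3
      have h4 : (w : L) * D q / q = - (r * D w) := by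
        rw [div_eq_iff hq0]
        linear_combination (-(w : L) * D q) * hr + (r : L) * h1
      rcases hq.2.2.2 (w : L) w.2 (D q) (hst _ hq.1) (by
        rw [h4]
        exact neg_mem (mul_mem (natCast_mem A r) (hst _ w.2))) with h | h
      · exact hw' h
      · exact hDq h
    have hm0 : m ≠ 0 := by
      rintro rfl
      rw [pow_zero, one_mul] at hxw'
      rw [hxw'] at hxq
      exact hw' hxq
    obtain ⟨j, rfl⟩ := hpm
    obtain ⟨i, rfl⟩ : ∃ i, j = i + 1 := ⟨j - 1, by
      have : j ≠ 0 := fun h => hm0 (by rw [h, mul_zero])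
      omega⟩
    rw [map_div₀, hk, hxw']
    have h5 : q ^ (p * (i + 1)) * (w : L) / q ^ p = q ^ (p * i) * w := by
      rw [mul_add, pow_add, mul_one]
      field_simp
    rw [h5]
    exact mul_mem (pow_mem hq.1 _) w.2
  refine ⟨⟨k, hkA⟩, (prime_iff _ _).2 ⟨hkA, hk0, fun h => ?_, ?_⟩, hk⟩
  · have h' : algebraMap K L k⁻¹ ∈ A := h
    rw [map_inv₀, hk] at h'
    apply hq.2.2.1
    obtain ⟨n, rfl⟩ : ∃ n, p = n + 1 := ⟨p - 1, by omega⟩
    have h1 : q⁻¹ = (q ^ (n + 1))⁻¹ * q ^ n := by
      rw [pow_succ]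
      field_simp
    rw [h1]
    exact mul_mem h' (pow_mem hq.1 n)
  · intro x hx y hy hxy
    have hx' : algebraMap K L x ∈ A := hx
    have hy' : algebraMap K L y ∈ A := hy
    have hxy' : algebraMap K L (x * y / k) ∈ A := hxy
    rw [map_div₀, map_mul, hk] at hxy'
    rcases hq.2.2.2 _ hx _ hy (by
      obtain ⟨n, hn⟩ : ∃ n, p = n + 1 := ⟨p - 1, by omega⟩
      have h1 : algebraMap K L x * algebraMap K L y / q = algebraMap K L x * algebraMap K L y / q ^ p * q ^ n := by
        rw [hn, pow_succ]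
        field_simp
      rw [h1]
      exact mul_mem hxy' (pow_mem hq.1 n)) with h | h
    · exact Or.inl (key x hx' h)
    · exact Or.inr (key y hy' h)

include hp hD in
/-- **Unique factorization descends** (Samuel's `p`-descent). -/
theorem ufd_cut {A B : Subring L} [UniqueFactorizationMonoid A] {f : L} (hf : f ∈ A) (hf0 : f ≠ 0)
    (hB : B = loc A f) [IsNoetherianRing B] (hst : ∀ x ∈ B, D x ∈ B)
    (hkey : ∀ q, Pr A q → q⁻¹ ∉ B → D q / q ∈ B → ∃ u ∈ B, u⁻¹ ∈ B ∧ u ≠ 0 ∧ D (q * u) = 0) :
    UniqueFactorizationMonoid (cut K B) := by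
  rw [UniqueFactorizationMonoid.iff_exists_prime_mem_of_isPrime]
  intro P hP0 hP
  have hAB : A ≤ B := hB ▸ le_loc A f
  -- the `p`-th power of an element of `B`, as an element of `cut K B`
  have hpw : ∀ x ∈ B, ∃ g : cut K B, algebraMap K L g = x ^ p := fun x hx => by
    obtain ⟨k, hk⟩ := exists_pow p D hD x
    exact ⟨⟨k, by change algebraMap K L k ∈ B; rw [hk]; exact pow_mem hx p⟩, hk⟩
  have hinj : ∀ g g' : cut K B, algebraMap K L g = algebraMap K L g' → g = g' := fun g g' h =>
    Subtype.ext ((algebraMap K L).injective h)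
  -- units of `B` give units
  have hunit : ∀ x ∈ B, x ≠ 0 → x⁻¹ ∈ B → ∀ g : cut K B, algebraMap K L g = x ^ p → g ∉ P := by
    intro x hx hx0 hxi g hg hgP
    obtain ⟨g', hg'⟩ := hpw _ hxi
    have h1 : g * g' = 1 := hinj _ _ (by
      rw [Subring.coe_mul, map_mul, hg, hg', ← mul_pow, mul_inv_cancel₀ hx0, one_pow]
      simp)
    exact hP.ne_top ((Ideal.eq_top_iff_one P).2 (h1 ▸ P.mul_mem_right g' hgP))
  have step : ∀ x : A, x ≠ 0 → ∀ g : cut K B, algebraMap K L g = (x : L) ^ p → g ∈ P →
      ∃ q : L, Pr A q ∧ ∃ g : cut K B, algebraMap K L g = q ^ p ∧ g ∈ P := by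
    intro x
    induction x using UniqueFactorizationMonoid.induction_on_prime with
    | h₁ => exact fun h => absurd rfl h
    | h₂ x hx =>
      intro hx0 g hg hgP
      have hx0' : (x : L) ≠ 0 := fun h => hx0 (Subtype.ext h)
      exact absurd hgP (hunit x (hAB x.2) hx0' (hAB ((isUnit_iff A x hx0').1 hx)) g hg)
    | h₃ a q ha hq ih =>
      intro h0 g hg hgP
      obtain ⟨g1, hg1⟩ := hpw (q : L) (hAB q.2)
      obtain ⟨g2, hg2⟩ := hpw (a : L) (hAB a.2)
      have h1 : g = g1 * g2 := hinj _ _ (by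
        rw [hg, Subring.coe_mul, mul_pow, Subring.coe_mul, map_mul, hg1, hg2])
      rw [h1] at hgP
      rcases hP.mem_or_mem hgP with h | h
      · exact ⟨q, (prime_iff A q).1 hq, g1, hg1, h⟩
      · exact ih ha g2 hg2 h
  obtain ⟨x, hxP, hx0⟩ := P.ne_bot_iff.1 hP0
  have hxB : algebraMap K L x ∈ loc A f := hB ▸ x.2
  obtain ⟨n, hn⟩ := (mem_loc hf hf0).1 hxB
  have hx0' : algebraMap K L (x : K) ≠ 0 := by
    intro h
    exact hx0 (Subtype.ext ((map_eq_zero _).1 h))
  obtain ⟨g, hg⟩ := hpw _ (hAB hn)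
  obtain ⟨g', hg'⟩ := hpw _ (hAB (pow_mem hf n))
  have h1 : g = x ^ p * g' := hinj _ _ (by
    rw [hg, Subring.coe_mul, map_mul, hg', Subring.coe_pow, map_pow, mul_pow])
  obtain ⟨q, hq, g2, hg2, hg2P⟩ := step ⟨_, hn⟩
    (fun h => mul_ne_zero hx0' (pow_ne_zero n hf0) (congrArg Subtype.val h)) g hg
    (h1 ▸ P.mul_mem_right _ (Ideal.pow_mem_of_mem P hxP p hp.out.pos))
  have hqB : q⁻¹ ∉ B := fun h => hunit q (hAB hq.1) hq.2.1 h g2 hg2 hg2P
  have hqPr : Pr B q := by
    rw [hB] at hqB ⊢
    exact hq.loc hf hf0 hqB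
  by_cases hDq : D q / q ∈ B
  · obtain ⟨u, hu, hui, hu0, hDu⟩ := hkey q hq hqB hDq
    have hqu : Pr B (q * u) := by
      refine ⟨mul_mem hqPr.1 hu, mul_ne_zero hqPr.2.1 hu0, fun h => hqB ?_, fun y hy z hz hyz => ?_⟩
      · have h2 : q⁻¹ = (q * u)⁻¹ * u := by
          rw [mul_inv, mul_assoc, inv_mul_cancel₀ hu0, mul_one]
        rw [h2]
        exact mul_mem h hu
      · rcases hqPr.2.2.2 y hy z hz (by
          have h2 : y * z / q = y * z / (q * u) * u := by
            field_simp
          rw [h2]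
          exact mul_mem hyz hu) with h | h
        · left
          have h2 : y / (q * u) = y / q * u⁻¹ := by field_simp
          rw [h2]
          exact mul_mem h hui
        · right
          have h2 : z / (q * u) = z / q * u⁻¹ := by field_simp
          rw [h2]
          exact mul_mem h hui
    obtain ⟨g3, hg3, hg3'⟩ := prime_case_one hqu ((hD _).1 hDu)
    refine ⟨g3, ?_, hg3⟩
    obtain ⟨g4, hg4⟩ := hpw u hu
    have h2 : g3 ^ p = g2 * g4 := hinj _ _ (by
      rw [Subring.coe_pow, map_pow, hg3', Subring.coe_mul, map_mul, hg2, hg4, mul_pow])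
    exact hP.mem_of_pow_mem p (h2 ▸ P.mul_mem_right g4 hg2P)
  · obtain ⟨g3, hg3, hg3'⟩ := prime_case_two p D hD hst hqPr hDq
    have h2 : g3 = g2 := hinj _ _ (by rw [hg3', hg2])
    exact ⟨g3, h2 ▸ hg2P, hg3⟩

end Ufd

section FT

variable {L : Type u} [Field L]

theorem finiteType_of_gen {A : Subring L} {N : ℕ} {y : Fin N → L} (hy : Subring.closure (Set.range y) = A) :
    Algebra.FiniteType ℤ A := by
  have h1 : (Algebra.adjoin ℤ (Set.range y)).FG :=
    (Subalgebra.fg_def).2 ⟨Set.range y, Set.finite_range y, rfl⟩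
  have h2 : Algebra.FiniteType ℤ (Algebra.adjoin ℤ (Set.range y)) := (Subalgebra.fg_iff_finiteType _).1 h1
  have h3 : ∀ x, x ∈ Algebra.adjoin ℤ (Set.range y) → x ∈ A := fun x hx => by
    rw [Algebra.adjoin_int, mem_subalgebraOfSubring, hy] at hx
    exact hx
  let φ : Algebra.adjoin ℤ (Set.range y) →+* A :=
    { toFun := fun x => ⟨x.1, h3 x.1 x.2⟩
      map_zero' := rfl
      map_one' := rfl
      map_add' := fun _ _ => rfl
      map_mul' := fun _ _ => rfl }
  refine Algebra.FiniteType.of_surjective φ.toIntAlgHom ?_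
  rintro ⟨x, hx⟩
  refine ⟨⟨x, ?_⟩, rfl⟩
  rw [Algebra.adjoin_int, mem_subalgebraOfSubring, hy]
  exact hx

theorem exists_gen (A : Subring L) [h : Algebra.FiniteType ℤ A] :
    ∃ (N : ℕ) (y : Fin N → L), Subring.closure (Set.range y) = A := by
  obtain ⟨s, hs⟩ := h.out
  let e := s.equivFin
  refine ⟨s.card, fun i => ((e.symm i : A) : L), ?_⟩
  have h1 : Set.range (fun i => ((e.symm i : A) : L)) = A.subtype '' (s : Set A) := by
    ext x
    constructor
    · rintro ⟨i, rfl⟩
      exact ⟨_, (e.symm i).2, rfl⟩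
    · rintro ⟨a, ha, rfl⟩
      exact ⟨e ⟨a, ha⟩, by simp⟩
  rw [h1, ← RingHom.map_closure]
  have h2 : Subring.closure (s : Set A) = ⊤ := by
    rw [Algebra.adjoin_int] at hs
    rw [eq_top_iff]
    intro x _
    have : x ∈ subalgebraOfSubring (Subring.closure (s : Set A)) := hs ▸ Algebra.mem_top
    exact this
  rw [h2, ← RingHom.range_eq_map, Subring.range_subtype]

theorem GoodS.finiteType {A : Subring L} (h : GoodS A) : Algebra.FiniteType ℤ A := by
  obtain ⟨N, y, hy⟩ := h.fg
  exact finiteType_of_gen hy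

theorem GoodS.noeth {A : Subring L} (h : GoodS A) : IsNoetherianRing A := by
  have := h.finiteType
  exact Algebra.FiniteType.isNoetherianRing ℤ A

end FT

open Groth.Agent.MultTori.K441

theorem good_of_goodS {K : Type u} [Field K] {B : Subring K} (h : GoodS B) : Good K := by
  refine ⟨B, inferInstance, inferInstance, inferInstance, h.finiteType, ?_, h.ufd, h.units⟩
  have : FaithfulSMul B K := (faithfulSMul_iff_algebraMap_injective B K).2 B.subtype_injective
  refine IsFractionRing.of_field B K fun z => ?_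
  obtain ⟨d, hd, hd0, hz⟩ := h.frac z
  refine ⟨⟨_, hz⟩, ⟨d, hd⟩, ?_⟩
  change z = d * z / d
  rw [mul_div_cancel_left₀ _ hd0]

theorem goodS_of_good {K : Type u} [Field K] (h : Good K) : ∃ B : Subring K, GoodS B := by
  obtain ⟨R, _, _, _, h1, h2, h3, h4⟩ := h
  let e : R ≃+* (algebraMap R K).range :=
    RingEquiv.ofBijective (algebraMap R K).rangeRestrict
      ⟨fun x y h => IsFractionRing.injective R K (congrArg Subtype.val h), (algebraMap R K).rangeRestrict_surjective⟩
  refine ⟨(algebraMap R K).range, ?_, fun x => ?_, ?_, ?_⟩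
  · have : Algebra.FiniteType ℤ (algebraMap R K).range :=
      Algebra.FiniteType.of_surjective (e : R →+* (algebraMap R K).range).toIntAlgHom e.surjective
    exact exists_gen _
  · obtain ⟨a, b, hb, rfl⟩ := IsFractionRing.div_surjective (A := R) x
    have hb0 : algebraMap R K b ≠ 0 := by
      intro h
      exact nonZeroDivisors.ne_zero hb (IsFractionRing.injective R K (by rw [h, map_zero]))
    refine ⟨algebraMap R K b, ⟨b, rfl⟩, hb0, ⟨a, ?_⟩⟩
    rw [mul_div_cancel₀ _ hb0]
  · exact e.toMulEquiv.uniqueFactorizationMonoid h3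
  · exact Group.fg_of_surjective (f := (Units.mapEquiv e.toMulEquiv).toMonoidHom) (Units.mapEquiv e.toMulEquiv).surjective

section Step

variable {K : Type u} {L : Type v} [Field K] [Field L] [Algebra K L] (p : ℕ) [hp : Fact p.Prime] [CharP L p]
  (D : Derivation ℤ L L)

omit hp [CharP L p] in
theorem D_mem_loc {A : Subring L} {d : L} (hd : d ∈ A) (hd0 : d ≠ 0) (h : ∀ x ∈ A, D x ∈ loc A d) {x : L}
    (hx : x ∈ loc A d) : D x ∈ loc A d := by
  obtain ⟨n, hn⟩ := (mem_loc hd hd0).1 hx
  have h1 := h _ hn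
  have h2 : D x = D (x * d ^ n) * (d⁻¹) ^ n - x * D (d ^ n) * (d⁻¹) ^ n := by
    rw [Derivation.leibniz, smul_eq_mul, smul_eq_mul, inv_pow]
    field_simp
    ring
  rw [h2]
  exact sub_mem (mul_mem h1 (pow_mem (inv_mem_loc A d) n))
    (mul_mem (mul_mem hx (h _ (pow_mem hd n))) (pow_mem (inv_mem_loc A d) n))

theorem exists_step (hD : ∀ x, D x = 0 ↔ x ∈ (algebraMap K L).range) (ψ : L →+ L)
    (hψ : ∀ c x, ψ (c ^ p * x) = c * ψ x) (hψD : ∀ g, g ≠ 0 → ψ (D g / g) = D g / g)
    {A : Subring L} (hA : GoodS A) : ∃ B : Subring K, GoodS B := by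
  classical
  have hpos := hp.out.pos
  obtain ⟨N, y, hy⟩ := hA.fg
  have hyA : ∀ i, y i ∈ A := fun i => hy ▸ Subring.subset_closure ⟨i, rfl⟩
  -- first localization: stability
  have hS : (Set.range (fun i => D (y i)) ∪
      Set.range (fun δ : Fin N → Fin p => ψ (mon y (fun i => (δ i : ℕ))))).Finite :=
    (Set.finite_range _).union (Set.finite_range _)
  obtain ⟨d, hd, hd0, hdS⟩ := hA.exists_denom hS
  have ha : ∀ x ∈ A, d * D x ∈ A := by
    intro x hx
    rw [← hy] at hx
    induction hx using Subring.closure_induction with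
    | mem x hx =>
      obtain ⟨i, rfl⟩ := hx
      exact hdS _ (Or.inl ⟨i, rfl⟩)
    | zero => rw [map_zero, mul_zero]; exact zero_mem A
    | one => rw [Derivation.map_one_eq_zero, mul_zero]; exact zero_mem A
    | add a b _ _ ha hb => rw [map_add, mul_add]; exact add_mem ha hb
    | neg a _ ha => rw [map_neg, mul_neg]; exact neg_mem ha
    | mul a b ha' hb' ha hb =>
      rw [hy] at ha' hb'
      rw [Derivation.leibniz, smul_eq_mul, smul_eq_mul]
      have h1 : d * (a * D b + b * D a) = a * (d * D b) + b * (d * D a) := by ring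
      rw [h1]
      exact add_mem (mul_mem ha' hb) (mul_mem hb' ha)
  have hc : ∀ x ∈ A, d * ψ x ∈ A := fun x hx => by
    rw [← hy] at hx
    refine psi_mem p y ψ hψ A hyA (fun δ hδ => ?_) hx
    exact hdS _ (Or.inr ⟨fun i => ⟨δ i, hδ i⟩, rfl⟩)
  have hA1 := hA.loc hd hd0
  have hdi : ∀ x : L, d * x ∈ A → x ∈ loc A d := fun x hx => by
    have h1 : x = d * x * d⁻¹ := by field_simp
    rw [h1]
    exact mul_mem (le_loc A d hx) (inv_mem_loc A d)
  have hst1 : ∀ x ∈ loc A d, D x ∈ loc A d := fun x hx =>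
    D_mem_loc D hd hd0 (fun x hx => hdi _ (ha x hx)) hx
  have hψ1 : ∀ x ∈ loc A d, ψ x ∈ loc A d := by
    intro x hx
    obtain ⟨n, hn⟩ := (mem_loc hd hd0).1 hx
    have h1 : d ^ (n * p) * x ∈ A := by
      obtain ⟨q, rfl⟩ : ∃ q, p = q + 1 := ⟨p - 1, by omega⟩
      have h2 : d ^ (n * (q + 1)) * x = d ^ (n * q) * (x * d ^ n) := by
        rw [mul_add, mul_one, pow_add]; ring
      rw [h2]
      exact mul_mem (pow_mem hd _) hn
    have h2 : x = ((d⁻¹) ^ n) ^ p * (d ^ (n * p) * x) := by
      rw [← pow_mul, inv_pow, ← mul_assoc, inv_mul_cancel₀ (pow_ne_zero _ hd0), one_mul]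
    rw [h2, hψ]
    exact mul_mem (pow_mem (inv_mem_loc A d) n) (hdi _ (hc _ h1))
  -- the finite set of logarithmic derivatives
  set A1 := loc A d with hA1def
  have hfin : {x | x ∈ A1 ∧ ψ x = x}.Finite := by
    obtain ⟨N1, y1, hy1⟩ := hA1.fg
    rw [← hy1]
    refine finite_fix p y1 ψ hψ fun δ _ => ?_
    rw [hy1]
    exact hψ1 _ (mon_mem y1 (fun i => hy1 ▸ Subring.subset_closure ⟨i, rfl⟩) δ)
  let γ : L → L := fun l => if h : ∃ g : L, g ≠ 0 ∧ D g / g = l then h.choose else 1
  have hγ : ∀ l, (∃ g : L, g ≠ 0 ∧ D g / g = l) → γ l ≠ 0 ∧ D (γ l) / γ l = l := fun l h => by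
    have : γ l = h.choose := dif_pos h
    rw [this]
    exact h.choose_spec
  obtain ⟨f, hf, hf0, hfT⟩ := hA1.exists_denom ((hfin.image γ).union (hfin.image fun l => (γ l)⁻¹))
  have hB := hA1.loc hf hf0
  have hst2 : ∀ x ∈ loc A1 f, D x ∈ loc A1 f := fun x hx =>
    D_mem_loc D hf hf0 (fun x hx => le_loc A1 f (hst1 x hx)) hx
  have hfi : ∀ x : L, f * x ∈ A1 → x ∈ loc A1 f := fun x hx => by
    have h1 : x = f * x * f⁻¹ := by field_simp
    rw [h1]
    exact mul_mem (le_loc A1 f hx) (inv_mem_loc A1 f)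
  have hkey : ∀ q, Pr A1 q → q⁻¹ ∉ loc A1 f → D q / q ∈ loc A1 f →
      ∃ u ∈ loc A1 f, u⁻¹ ∈ loc A1 f ∧ u ≠ 0 ∧ D (q * u) = 0 := by
    intro q hq hqi hDq
    obtain ⟨n, hn⟩ := (mem_loc hf hf0).1 hDq
    have hl : D q / q ∈ A1 := by
      rcases hq.2.2.2 (D q) (hst1 _ hq.1) (f ^ n) (pow_mem hf n) (by rwa [mul_div_right_comm]) with h | h
      · exact h
      · exfalso
        apply hqi
        rw [mem_loc hf hf0]
        exact ⟨n, by rwa [inv_mul_eq_div]⟩
    have hl' : D q / q ∈ {x | x ∈ A1 ∧ ψ x = x} := ⟨hl, hψD q hq.2.1⟩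
    obtain ⟨hg0, hg⟩ := hγ _ ⟨q, hq.2.1, rfl⟩
    set g := γ (D q / q) with hgdef
    refine ⟨g⁻¹, hfi _ (hfT _ (Or.inr ⟨_, hl', rfl⟩)), ?_, inv_ne_zero hg0, ?_⟩
    · rw [inv_inv]
      exact hfi _ (hfT _ (Or.inl ⟨_, hl', rfl⟩))
    · have h1 : D q = D ((q * g⁻¹) * g) := by rw [inv_mul_cancel_right₀ hg0]
      rw [Derivation.leibniz, smul_eq_mul, smul_eq_mul] at h1
      have hq0 := hq.2.1
      have h2 : g * D (q * g⁻¹) = 0 := by
        have h3 : q * g⁻¹ * D g = D q := by
          have h4 : q * g⁻¹ * D g = q * (D g / g) := by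
            rw [div_eq_mul_inv]; ring
          rw [h4, hg, mul_div_cancel₀ _ hq0]
        rw [h3] at h1
        linear_combination -h1
      exact (mul_eq_zero.1 h2).resolve_left hg0
  have hnoeth := hB.noeth
  have hft := hB.finiteType
  have hufd1 := hA1.ufd
  refine ⟨cut K (loc A1 f), ?_, fun x => ?_, ufd_cut p D hD hf hf0 rfl hst2 hkey, ?_⟩
  · let ι : cut K (loc A1 f) →+* loc A1 f :=
      ((algebraMap K L).comp (cut K (loc A1 f)).subtype).codRestrict (loc A1 f) fun x => x.2
    let := ι.toAlgebra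
    have hιinj : Function.Injective (algebraMap (cut K (loc A1 f)) (loc A1 f)) := fun a b h =>
      Subtype.ext ((algebraMap K L).injective (congrArg Subtype.val h))
    have hint : Algebra.IsIntegral (cut K (loc A1 f)) (loc A1 f) := by
      refine ⟨fun x => ?_⟩
      obtain ⟨k, hk⟩ := exists_pow p D hD (x : L)
      have hkm : algebraMap K L k ∈ loc A1 f := by rw [hk]; exact pow_mem x.2 p
      refine IsIntegral.of_pow hpos ?_
      have h1 : x ^ p = algebraMap (cut K (loc A1 f)) (loc A1 f) ⟨k, hkm⟩ := Subtype.ext hk.symm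
      rw [h1]
      exact isIntegral_algebraMap
    have hft' : Algebra.FiniteType (cut K (loc A1 f)) (loc A1 f) :=
      Algebra.FiniteType.of_restrictScalars_finiteType ℤ _ _
    have hmf : Module.Finite (cut K (loc A1 f)) (loc A1 f) := Algebra.IsIntegral.finite
    have : Algebra.FiniteType ℤ (cut K (loc A1 f)) :=
      ⟨fg_of_fg_of_fg ℤ (cut K (loc A1 f)) (loc A1 f) hft.out hmf.1 hιinj⟩
    exact exists_gen _
  · obtain ⟨e, he, he0, hex⟩ := hB.frac (algebraMap K L x)
    obtain ⟨k, hk⟩ := exists_pow p D hD e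
    have hk0 : k ≠ 0 := by
      rintro rfl
      rw [map_zero] at hk
      exact pow_ne_zero p he0 hk.symm
    refine ⟨k, ?_, hk0, ?_⟩
    · change algebraMap K L k ∈ loc A1 f
      rw [hk]
      exact pow_mem he p
    · change algebraMap K L (k * x) ∈ loc A1 f
      obtain ⟨q, hq⟩ : ∃ q, p = q + 1 := ⟨p - 1, by omega⟩
      rw [map_mul, hk, hq, pow_succ, mul_assoc]
      exact mul_mem (pow_mem he q) hex
  · have hu := hB.units
    let ι : cut K (loc A1 f) →+* loc A1 f :=
      ((algebraMap K L).comp (cut K (loc A1 f)).subtype).codRestrict (loc A1 f) fun x => x.2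
    have hιinj : Function.Injective ι := fun a b h =>
      Subtype.ext ((algebraMap K L).injective (congrArg Subtype.val h))
    exact fg_of_injective (Units.map ι.toMonoidHom) (Units.map_injective hιinj)

end Step

theorem good_of_ringEquiv {K K' : Type u} [Field K] [Field K'] (e : K' ≃+* K) (h : Good K') : Good K := by
  obtain ⟨R, _, _, _, h1, h2, h3, h4⟩ := h
  let : Algebra R K := ((e : K' →+* K).comp (algebraMap R K')).toAlgebra
  let e' : K' ≃ₐ[R] K := AlgEquiv.ofRingEquiv (f := e) fun _ => rfl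
  exact ⟨R, inferInstance, inferInstance, inferInstance, h1, IsLocalization.isLocalization_of_algEquiv _ e', h3, h4⟩

theorem good_aux (n : ℕ) : ∀ (K K' : Type u) [Field K] [Field K'] [Algebra K K'] [FiniteDimensional K K']
    [IsPurelyInseparable K K'], Module.finrank K K' ≤ n → Good K' → Good K := by
  induction n with
  | zero =>
    intro K K' _ _ _ _ _ hn
    have := Module.finrank_pos (R := K) (M := K')
    omega
  | succ n ih =>
    intro K K' _ _ _ _ _ hn h
    by_cases hsurj : Function.Surjective (algebraMap K K')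
    · exact good_of_ringEquiv (RingEquiv.ofBijective (algebraMap K K') ⟨(algebraMap K K').injective, hsurj⟩).symm h
    · rw [Function.Surjective] at hsurj
      push Not at hsurj
      obtain ⟨x, hx⟩ := hsurj
      obtain ⟨q, hq⟩ := ExpChar.exists K
      rcases hq with _ | hp
      · exfalso
        obtain ⟨m, y, hy⟩ := IsPurelyInseparable.pow_mem K 1 x
        rw [one_pow, pow_one] at hy
        exact hx y hy
      · have : Fact q.Prime := ⟨hp⟩
        have hK' : CharP K' q := (RingHom.charP_iff (algebraMap K K') (algebraMap K K').injective q).1 inferInstance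
        have hex := IsPurelyInseparable.pow_mem K q x
        classical
        obtain ⟨m, hm⟩ : ∃ m, Nat.find hex = m + 1 := ⟨Nat.find hex - 1, by
          have h0 : Nat.find hex ≠ 0 := by
            intro h0
            obtain ⟨y, hy⟩ := Nat.find_spec hex
            rw [h0, pow_zero, pow_one] at hy
            exact hx y hy
          omega⟩
        have h1 : x ^ q ^ m ∉ (algebraMap K K').range := Nat.find_min hex (by omega)
        obtain ⟨b, hb⟩ : x ^ q ^ (m + 1) ∈ (algebraMap K K').range := hm ▸ Nat.find_spec hex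
        set a := x ^ q ^ m with ha
        rw [pow_succ, pow_mul, ← ha] at hb
        let E := IntermediateField.adjoin K {a}
        let aE : E := IntermediateField.AdjoinSimple.gen K a
        have haE : aE ∉ (algebraMap K E).range := by
          rintro ⟨c, hc⟩
          exact h1 ⟨c, congrArg Subtype.val hc⟩
        have hbE : algebraMap K E b = aE ^ q := Subtype.ext hb
        have hgen : Algebra.adjoin K {aE} = ⊤ := by
          have hint : IsIntegral K a := Algebra.IsIntegral.isIntegral a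
          have h2 := (IntermediateField.adjoin.powerBasis hint).adjoin_gen_eq_top
          rwa [IntermediateField.adjoin.powerBasis_gen] at h2
        have hE : CharP E q := (RingHom.charP_iff (algebraMap K E) (algebraMap K E).injective q).1 inferInstance
        have hdeg : Module.finrank E K' ≤ n := by
          have h2 := Module.finrank_mul_finrank K E K'
          have h3 : 1 < Module.finrank K E := by
            have h4 : Module.finrank K E ≠ 1 := by
              intro h4
              have h5 := IntermediateField.finrank_eq_one_iff.1 h4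
              have h6 : a ∈ (⊥ : IntermediateField K K') := h5 ▸ IntermediateField.mem_adjoin_simple_self K a
              exact h1 (IntermediateField.mem_bot.1 h6)
            have h5 := Module.finrank_pos (R := K) (M := E)
            omega
          have h4 := Module.finrank_pos (R := E) (M := K')
          nlinarith
        have hGE : Good E := ih E K' hdeg h
        obtain ⟨A, hA⟩ := goodS_of_good hGE
        obtain ⟨D, ψ, hD, hψ, hψD⟩ := exists_psi q aE b hbE haE hgen
        obtain ⟨B, hB⟩ := exists_step q D hD ψ hψ hψD hA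
        exact good_of_goodS hB

/-- **RQ-D6**: `Good` descends along finite purely inseparable extensions. -/
theorem good_of_purelyInseparable (K K' : Type u) [Field K] [Field K'] [Algebra.EssFiniteType ℤ K]
    [Algebra K K'] [FiniteDimensional K K'] [IsPurelyInseparable K K'] (h : Good K') : Good K :=
  good_aux _ K K' le_rfl h

end K44.Pins
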